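import Mathlib
import Cfsg.Prelude.Def_KGroupFacts

/-!
# Out(Co2) = 1 (team project S2070, helper33): the abstract rigidity statement

`x` of prime order `p` with self-centralising Sylow subgroup `⟨x⟩`, `z` normalising it
(`z x z⁻¹ = x ^ k`, `k ≠ 1`), of odd order and self-centralising, `t` an involution inverting `z`.
After inner automorphisms every automorphism maps `x ↦ x ^ m`, `z ↦ z`, `t ↦ t`; if the three
elements generate and no automorphism with `1 < m < p` exists, all automorphisms are inner.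
-/

set_option autoImplicit false

namespace Cfsg.Agent.H33.C2

/-- RIGID2 (abstract group theory). -/
def StRigid2 : Prop := ∀ {G : Type} [Group G] [Finite G] (x z t : G) (p k : ℕ),
  p.Prime → orderOf x = p → ¬ p ^ 2 ∣ Nat.card G →
  (∀ s : G, s * x = x * s → s ∈ Subgroup.zpowers x) →
  z * x * z⁻¹ = x ^ k → ¬ k % p = 1 →
  Odd (orderOf z) →
  (∀ s : G, s * z = z * s → s ∈ Subgroup.zpowers z) →
  t ^ 2 = 1 → t * z * t⁻¹ = z⁻¹ →
  Subgroup.closure ({x, z, t} : Set G) = ⊤ →
  (∀ m : ℕ, 1 < m → m < p → ¬ ∃ β : G ≃* G, β x = x ^ m ∧ β z = z ∧ β t = t) →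
  Nat.card (Cfsg.Out G) = 1

end Cfsg.Agent.H33.C2
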