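import Mathlib
import Cfsg.Agent.H33.C2.Defs

/-!
# The stabiliser chain of `K2` on the 4600 table vectors: checkers and statements
(piece C2-CHAIN of S2070, helper33)

The certificate consists of a straight-line program (every node is a code of a permutation of
`Fin 4600` that is the product of two earlier nodes, `chkMul`) and, for every level, a list `gl`
of node codes fixing the earlier base points together with a Schreier tree (`chkTr`): `n` entries
of 64 bits, sorted by their points; an entry is the root (depth 0, point `r`) or its point is the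
image of the point of an entry of smaller depth under a generator of the list.
-/

set_option autoImplicit false

namespace Cfsg.Agent.H33.C2

open Cfsg Cfsg.Agent.H9 Cfsg.Agent.H33 Cfsg.Agent.H33.C3

/-- the code `c` is the product of the codes `a` and `b` (first `b`, then `a`) -/
def chkMul (c a b : ℕ) : Bool :=
  allB (fun p => Nat.beq (g16 c p) (g16 a (g16 b p))) 4600

/-- the point of a tree entry -/
def tQ (e : ℕ) : ℕ := Nat.land e 65535
/-- the parent entry of a tree entry -/
def tU (e : ℕ) : ℕ := Nat.land (Nat.shiftRight e 16) 65535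
/-- the generator index of a tree entry -/
def tG (e : ℕ) : ℕ := Nat.land (Nat.shiftRight e 32) 255
/-- the depth of a tree entry -/
def tD (e : ℕ) : ℕ := Nat.land (Nat.shiftRight e 40) 65535

/-- entry `t` of the Schreier tree `T` (`n` entries of 64 bits, sorted by their points) with
root `r` over the generator codes `gl` is valid -/
def chkTr (gl : List ℕ) (T n r : ℕ) (t : ℕ) : Bool :=
  Nat.blt (tQ (fldW 64 T t)) 4600 &&
  ((Nat.beq (t + 1) n || Nat.blt (tQ (fldW 64 T t)) (tQ (fldW 64 T (t + 1)))) &&
  ((Nat.beq (tD (fldW 64 T t)) 0 && Nat.beq (tQ (fldW 64 T t)) r) ||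
   (Nat.blt (tU (fldW 64 T t)) n &&
    (Nat.blt (tD (fldW 64 T (tU (fldW 64 T t)))) (tD (fldW 64 T t)) &&
     (Nat.blt (tG (fldW 64 T t)) gl.length &&
      Nat.beq (g16 (gl.getD (tG (fldW 64 T t)) 0) (tQ (fldW 64 T (tU (fldW 64 T t)))))
        (tQ (fldW 64 T t)))))))

/-- the point with number `b` -/
def pt (b : ℕ) : Fin 4600 := ⟨b % 4600, Nat.mod_lt _ (by norm_num)⟩

/-- the subgroup of `K2` fixing the points of the list `bs` -/
def StabL (bs : List ℕ) : Subgroup (Equiv.Perm (Fin 4600)) :=
  K2 ⊓ ⨅ b ∈ bs, MulAction.stabilizer (Equiv.Perm (Fin 4600)) (pt b)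

/-- MULSOUND: products of coded elements of `K2`. -/
def StMulSound : Prop := ∀ (a b c : ℕ), (∃ g ∈ K2, PRep2 g a) → (∃ g ∈ K2, PRep2 g b) →
  chkMul c a b = true → ∃ g ∈ K2, PRep2 g c

/-- LEVEL: a valid Schreier tree with `n` entries and root `r`, over generators of `K2` that fix
the points of `bs`, bounds the index of the stabiliser of `r` in the stabiliser of `bs`. -/
def StLevel : Prop := ∀ (bs gl : List ℕ) (T n r : ℕ), r < 4600 →
  (∀ c ∈ gl, ∃ g ∈ K2, PRep2 g c) →
  gl.all (fun c => bs.all (fun b => Nat.beq (g16 c b) b)) = true →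
  bs.all (fun b => Nat.blt b 4600) = true →
  allB (chkTr gl T n r) n = true →
  n * Nat.card ↥(StabL (r :: bs)) ≤ Nat.card ↥(StabL bs)

/-- STABNIL: the chain starts at `K2`. -/
def StStabNil : Prop := StabL [] = K2

end Cfsg.Agent.H33.C2
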