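import Cfsg.Agent.H33.C2.ChData

/-!
# Kernel checks of the straight-line program of `C2.ChData` (helper33; generated)
-/

set_option autoImplicit false
set_option maxRecDepth 100000

namespace Cfsg.Agent.H33.C2

open Cfsg Cfsg.Agent.H9 Cfsg.Agent.H33 Cfsg.Agent.H33.C3

theorem ck3 : chkMul nd3 cX2 cX2 = true := by decide +kernel
theorem ck4 : chkMul nd4 nd3 cZ2 = true := by decide +kernel
theorem ck5 : chkMul nd5 nd4 cT2 = true := by decide +kernel
theorem ck6 : chkMul nd6 nd5 cX2 = true := by decide +kernel
theorem ck7 : chkMul nd7 nd6 cT2 = true := by decide +kernel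
theorem ck8 : chkMul nd8 nd7 cZ2 = true := by decide +kernel
theorem ck9 : chkMul nd9 nd8 cX2 = true := by decide +kernel
theorem ck10 : chkMul nd10 nd9 cT2 = true := by decide +kernel
theorem ck11 : chkMul nd11 nd10 cZ2 = true := by decide +kernel
theorem ck12 : chkMul nd12 nd11 cX2 = true := by decide +kernel
theorem ck13 : chkMul nd13 nd12 cT2 = true := by decide +kernel
theorem ck14 : chkMul nd14 nd13 cZ2 = true := by decide +kernel
theorem ck15 : chkMul nd15 nd14 cX2 = true := by decide +kernel
theorem ck16 : chkMul nd16 cZ2 cX2 = true := by decide +kernel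
theorem ck17 : chkMul nd17 cX2 nd16 = true := by decide +kernel
theorem ck18 : chkMul nd18 cX2 nd17 = true := by decide +kernel
theorem ck19 : chkMul nd19 cT2 nd18 = true := by decide +kernel
theorem ck20 : chkMul nd20 cX2 nd19 = true := by decide +kernel
theorem ck21 : chkMul nd21 cT2 nd20 = true := by decide +kernel
theorem ck22 : chkMul nd22 cZ2 nd21 = true := by decide +kernel
theorem ck23 : chkMul nd23 cX2 nd22 = true := by decide +kernel
theorem ck24 : chkMul nd24 cX2 nd23 = true := by decide +kernel
theorem ck25 : chkMul nd25 cZ2 nd24 = true := by decide +kernel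
theorem ck26 : chkMul nd26 nd15 nd25 = true := by decide +kernel
theorem ck27 : chkMul nd27 cX2 cT2 = true := by decide +kernel
theorem ck28 : chkMul nd28 nd27 cZ2 = true := by decide +kernel
theorem ck29 : chkMul nd29 nd28 cX2 = true := by decide +kernel
theorem ck30 : chkMul nd30 nd29 cZ2 = true := by decide +kernel
theorem ck31 : chkMul nd31 nd30 cT2 = true := by decide +kernel
theorem ck32 : chkMul nd32 nd31 cX2 = true := by decide +kernel
theorem ck33 : chkMul nd33 nd32 cX2 = true := by decide +kernel
theorem ck34 : chkMul nd34 nd33 cT2 = true := by decide +kernel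
theorem ck35 : chkMul nd35 cZ2 nd27 = true := by decide +kernel
theorem ck36 : chkMul nd36 cX2 nd35 = true := by decide +kernel
theorem ck37 : chkMul nd37 cX2 nd36 = true := by decide +kernel
theorem ck38 : chkMul nd38 cT2 nd37 = true := by decide +kernel
theorem ck39 : chkMul nd39 cX2 nd38 = true := by decide +kernel
theorem ck40 : chkMul nd40 cX2 nd39 = true := by decide +kernel
theorem ck41 : chkMul nd41 cX2 nd40 = true := by decide +kernel
theorem ck42 : chkMul nd42 cT2 nd41 = true := by decide +kernel
theorem ck43 : chkMul nd43 nd34 nd42 = true := by decide +kernel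
theorem ck44 : chkMul nd44 cX2 nd3 = true := by decide +kernel
theorem ck45 : chkMul nd45 cT2 nd44 = true := by decide +kernel
theorem ck46 : chkMul nd46 cX2 nd45 = true := by decide +kernel
theorem ck47 : chkMul nd47 cX2 nd46 = true := by decide +kernel
theorem ck48 : chkMul nd48 cT2 nd47 = true := by decide +kernel
theorem ck49 : chkMul nd49 cZ2 nd48 = true := by decide +kernel
theorem ck50 : chkMul nd50 cZ2 nd49 = true := by decide +kernel
theorem ck51 : chkMul nd51 cX2 nd50 = true := by decide +kernel
theorem ck52 : chkMul nd52 cX2 nd51 = true := by decide +kernel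
theorem ck53 : chkMul nd53 cX2 nd52 = true := by decide +kernel
theorem ck54 : chkMul nd54 nd28 nd53 = true := by decide +kernel
theorem ck55 : chkMul nd55 nd26 nd43 = true := by decide +kernel
theorem ck56 : chkMul nd56 nd55 nd54 = true := by decide +kernel
theorem ck57 : chkMul nd57 nd56 nd26 = true := by decide +kernel
theorem ck58 : chkMul nd58 nd57 nd26 = true := by decide +kernel
theorem ck59 : chkMul nd59 nd58 nd43 = true := by decide +kernel
theorem ck60 : chkMul nd60 nd59 nd26 = true := by decide +kernel
theorem ck61 : chkMul nd61 nd60 nd26 = true := by decide +kernel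
theorem ck62 : chkMul nd62 nd26 nd26 = true := by decide +kernel
theorem ck63 : chkMul nd63 nd43 nd62 = true := by decide +kernel
theorem ck64 : chkMul nd64 nd54 nd63 = true := by decide +kernel
theorem ck65 : chkMul nd65 nd54 nd64 = true := by decide +kernel
theorem ck66 : chkMul nd66 nd26 nd65 = true := by decide +kernel
theorem ck67 : chkMul nd67 nd26 nd66 = true := by decide +kernel
theorem ck68 : chkMul nd68 nd26 nd67 = true := by decide +kernel
theorem ck69 : chkMul nd69 nd61 nd68 = true := by decide +kernel
theorem ck70 : chkMul nd70 nd62 nd54 = true := by decide +kernel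
theorem ck71 : chkMul nd71 nd70 nd43 = true := by decide +kernel
theorem ck72 : chkMul nd72 nd71 nd54 = true := by decide +kernel
theorem ck73 : chkMul nd73 nd72 nd43 = true := by decide +kernel
theorem ck74 : chkMul nd74 nd73 nd54 = true := by decide +kernel
theorem ck75 : chkMul nd75 nd74 nd26 = true := by decide +kernel
theorem ck76 : chkMul nd76 nd26 nd62 = true := by decide +kernel
theorem ck77 : chkMul nd77 nd26 nd76 = true := by decide +kernel
theorem ck78 : chkMul nd78 nd43 nd77 = true := by decide +kernel
theorem ck79 : chkMul nd79 nd26 nd78 = true := by decide +kernel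
theorem ck80 : chkMul nd80 nd54 nd79 = true := by decide +kernel
theorem ck81 : chkMul nd81 nd43 nd80 = true := by decide +kernel
theorem ck82 : chkMul nd82 nd43 nd81 = true := by decide +kernel
theorem ck83 : chkMul nd83 nd75 nd82 = true := by decide +kernel
theorem ck84 : chkMul nd84 nd26 nd54 = true := by decide +kernel
theorem ck85 : chkMul nd85 nd84 nd26 = true := by decide +kernel
theorem ck86 : chkMul nd86 nd85 nd43 = true := by decide +kernel
theorem ck87 : chkMul nd87 nd86 nd26 = true := by decide +kernel
theorem ck88 : chkMul nd88 nd87 nd26 = true := by decide +kernel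
theorem ck89 : chkMul nd89 nd43 nd55 = true := by decide +kernel
theorem ck90 : chkMul nd90 nd26 nd89 = true := by decide +kernel
theorem ck91 : chkMul nd91 nd26 nd90 = true := by decide +kernel
theorem ck92 : chkMul nd92 nd26 nd91 = true := by decide +kernel
theorem ck93 : chkMul nd93 nd26 nd92 = true := by decide +kernel
theorem ck94 : chkMul nd94 nd88 nd93 = true := by decide +kernel
theorem ck95 : chkMul nd95 nd69 nd83 = true := by decide +kernel
theorem ck96 : chkMul nd96 nd95 nd69 = true := by decide +kernel
theorem ck97 : chkMul nd97 nd96 nd83 = true := by decide +kernel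
theorem ck98 : chkMul nd98 nd97 nd69 = true := by decide +kernel
theorem ck99 : chkMul nd99 nd98 nd83 = true := by decide +kernel
theorem ck100 : chkMul nd100 nd99 nd69 = true := by decide +kernel
theorem ck101 : chkMul nd101 nd69 nd97 = true := by decide +kernel
theorem ck102 : chkMul nd102 nd83 nd101 = true := by decide +kernel
theorem ck103 : chkMul nd103 nd94 nd102 = true := by decide +kernel
theorem ck104 : chkMul nd104 nd83 nd103 = true := by decide +kernel
theorem ck105 : chkMul nd105 nd100 nd104 = true := by decide +kernel
theorem ck106 : chkMul nd106 nd69 nd69 = true := by decide +kernel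
theorem ck107 : chkMul nd107 nd106 nd94 = true := by decide +kernel
theorem ck108 : chkMul nd108 nd107 nd69 = true := by decide +kernel
theorem ck109 : chkMul nd109 nd108 nd69 = true := by decide +kernel
theorem ck110 : chkMul nd110 nd109 nd69 = true := by decide +kernel
theorem ck111 : chkMul nd111 nd83 nd69 = true := by decide +kernel
theorem ck112 : chkMul nd112 nd83 nd111 = true := by decide +kernel
theorem ck113 : chkMul nd113 nd83 nd112 = true := by decide +kernel
theorem ck114 : chkMul nd114 nd69 nd113 = true := by decide +kernel
theorem ck115 : chkMul nd115 nd94 nd114 = true := by decide +kernel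
theorem ck116 : chkMul nd116 nd83 nd115 = true := by decide +kernel
theorem ck117 : chkMul nd117 nd69 nd116 = true := by decide +kernel
theorem ck118 : chkMul nd118 nd110 nd117 = true := by decide +kernel
theorem ck119 : chkMul nd119 nd118 nd105 = true := by decide +kernel
theorem ck120 : chkMul nd120 nd119 nd105 = true := by decide +kernel
theorem ck121 : chkMul nd121 nd120 nd118 = true := by decide +kernel
theorem ck122 : chkMul nd122 nd121 nd118 = true := by decide +kernel
theorem ck123 : chkMul nd123 nd122 nd118 = true := by decide +kernel
theorem ck124 : chkMul nd124 nd118 nd123 = true := by decide +kernel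
theorem ck125 : chkMul nd125 nd118 nd124 = true := by decide +kernel
theorem ck126 : chkMul nd126 nd120 nd105 = true := by decide +kernel
theorem ck127 : chkMul nd127 nd125 nd118 = true := by decide +kernel
theorem ck128 : chkMul nd128 nd127 nd118 = true := by decide +kernel
theorem ck129 : chkMul nd129 nd128 nd105 = true := by decide +kernel
theorem ck130 : chkMul nd130 nd129 nd105 = true := by decide +kernel
theorem ck131 : chkMul nd131 nd105 nd126 = true := by decide +kernel
theorem ck132 : chkMul nd132 nd105 nd131 = true := by decide +kernel
theorem ck133 : chkMul nd133 nd105 nd132 = true := by decide +kernel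
theorem ck134 : chkMul nd134 nd118 nd133 = true := by decide +kernel
theorem ck135 : chkMul nd135 nd105 nd134 = true := by decide +kernel
theorem ck136 : chkMul nd136 nd105 nd135 = true := by decide +kernel
theorem ck137 : chkMul nd137 nd118 nd136 = true := by decide +kernel
theorem ck138 : chkMul nd138 nd118 nd137 = true := by decide +kernel
theorem ck139 : chkMul nd139 nd130 nd138 = true := by decide +kernel

end Cfsg.Agent.H33.C2
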