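import Mathlib
import Cfsg.Agent.H33.C2.ChNodes
import Cfsg.Agent.H33.C2.ChTree

/-!
# The lower bound for the order of `K2` (piece C2-CHAIN of S2070, helper33; generated)

`chain2` takes the abstract soundness statements `StLevel`, `StStabNil` of `C2.ChDefs` as hypotheses.
-/

set_option autoImplicit false
set_option maxRecDepth 100000

namespace Cfsg.Agent.H33.C2

open Cfsg Cfsg.Agent.H9 Cfsg.Agent.H33 Cfsg.Agent.H33.C3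

theorem mul_sound {a b c : ℕ} (ha : ∃ g ∈ K2, PRep2 g a) (hb : ∃ g ∈ K2, PRep2 g b)
    (h : chkMul c a b = true) : ∃ g ∈ K2, PRep2 g c := by
  obtain ⟨ga, hga, ra⟩ := ha
  obtain ⟨gb, hgb, rb⟩ := hb
  refine ⟨ga * gb, K2.mul_mem hga hgb, fun p => ?_⟩
  rw [Equiv.Perm.mul_apply, ra, rb]
  have h1 := (allB_iff _ _).mp h p.val p.isLt
  exact (Nat.eq_of_beq_eq_true h1).symm

theorem sd0 : ∃ g ∈ K2, PRep2 g cX2 :=
  ⟨pX2, Subgroup.subset_closure (Set.mem_insert _ _), prep_permOf2 _ _ _⟩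
theorem sd1 : ∃ g ∈ K2, PRep2 g cZ2 :=
  ⟨pZ2, Subgroup.subset_closure (Set.mem_insert_of_mem _ (Set.mem_insert _ _)), prep_permOf2 _ _ _⟩
theorem sd2 : ∃ g ∈ K2, PRep2 g cT2 :=
  ⟨pT2, Subgroup.subset_closure
    (Set.mem_insert_of_mem _ (Set.mem_insert_of_mem _ (Set.mem_singleton _))), prep_permOf2 _ _ _⟩
theorem sd3 : ∃ g ∈ K2, PRep2 g nd3 := mul_sound sd0 sd0 ck3
theorem sd4 : ∃ g ∈ K2, PRep2 g nd4 := mul_sound sd3 sd1 ck4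
theorem sd5 : ∃ g ∈ K2, PRep2 g nd5 := mul_sound sd4 sd2 ck5
theorem sd6 : ∃ g ∈ K2, PRep2 g nd6 := mul_sound sd5 sd0 ck6
theorem sd7 : ∃ g ∈ K2, PRep2 g nd7 := mul_sound sd6 sd2 ck7
theorem sd8 : ∃ g ∈ K2, PRep2 g nd8 := mul_sound sd7 sd1 ck8
theorem sd9 : ∃ g ∈ K2, PRep2 g nd9 := mul_sound sd8 sd0 ck9
theorem sd10 : ∃ g ∈ K2, PRep2 g nd10 := mul_sound sd9 sd2 ck10
theorem sd11 : ∃ g ∈ K2, PRep2 g nd11 := mul_sound sd10 sd1 ck11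
theorem sd12 : ∃ g ∈ K2, PRep2 g nd12 := mul_sound sd11 sd0 ck12
theorem sd13 : ∃ g ∈ K2, PRep2 g nd13 := mul_sound sd12 sd2 ck13
theorem sd14 : ∃ g ∈ K2, PRep2 g nd14 := mul_sound sd13 sd1 ck14
theorem sd15 : ∃ g ∈ K2, PRep2 g nd15 := mul_sound sd14 sd0 ck15
theorem sd16 : ∃ g ∈ K2, PRep2 g nd16 := mul_sound sd1 sd0 ck16
theorem sd17 : ∃ g ∈ K2, PRep2 g nd17 := mul_sound sd0 sd16 ck17
theorem sd18 : ∃ g ∈ K2, PRep2 g nd18 := mul_sound sd0 sd17 ck18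
theorem sd19 : ∃ g ∈ K2, PRep2 g nd19 := mul_sound sd2 sd18 ck19
theorem sd20 : ∃ g ∈ K2, PRep2 g nd20 := mul_sound sd0 sd19 ck20
theorem sd21 : ∃ g ∈ K2, PRep2 g nd21 := mul_sound sd2 sd20 ck21
theorem sd22 : ∃ g ∈ K2, PRep2 g nd22 := mul_sound sd1 sd21 ck22
theorem sd23 : ∃ g ∈ K2, PRep2 g nd23 := mul_sound sd0 sd22 ck23
theorem sd24 : ∃ g ∈ K2, PRep2 g nd24 := mul_sound sd0 sd23 ck24
theorem sd25 : ∃ g ∈ K2, PRep2 g nd25 := mul_sound sd1 sd24 ck25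
theorem sd26 : ∃ g ∈ K2, PRep2 g nd26 := mul_sound sd15 sd25 ck26
theorem sd27 : ∃ g ∈ K2, PRep2 g nd27 := mul_sound sd0 sd2 ck27
theorem sd28 : ∃ g ∈ K2, PRep2 g nd28 := mul_sound sd27 sd1 ck28
theorem sd29 : ∃ g ∈ K2, PRep2 g nd29 := mul_sound sd28 sd0 ck29
theorem sd30 : ∃ g ∈ K2, PRep2 g nd30 := mul_sound sd29 sd1 ck30
theorem sd31 : ∃ g ∈ K2, PRep2 g nd31 := mul_sound sd30 sd2 ck31
theorem sd32 : ∃ g ∈ K2, PRep2 g nd32 := mul_sound sd31 sd0 ck32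
theorem sd33 : ∃ g ∈ K2, PRep2 g nd33 := mul_sound sd32 sd0 ck33
theorem sd34 : ∃ g ∈ K2, PRep2 g nd34 := mul_sound sd33 sd2 ck34
theorem sd35 : ∃ g ∈ K2, PRep2 g nd35 := mul_sound sd1 sd27 ck35
theorem sd36 : ∃ g ∈ K2, PRep2 g nd36 := mul_sound sd0 sd35 ck36
theorem sd37 : ∃ g ∈ K2, PRep2 g nd37 := mul_sound sd0 sd36 ck37
theorem sd38 : ∃ g ∈ K2, PRep2 g nd38 := mul_sound sd2 sd37 ck38
theorem sd39 : ∃ g ∈ K2, PRep2 g nd39 := mul_sound sd0 sd38 ck39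
theorem sd40 : ∃ g ∈ K2, PRep2 g nd40 := mul_sound sd0 sd39 ck40
theorem sd41 : ∃ g ∈ K2, PRep2 g nd41 := mul_sound sd0 sd40 ck41
theorem sd42 : ∃ g ∈ K2, PRep2 g nd42 := mul_sound sd2 sd41 ck42
theorem sd43 : ∃ g ∈ K2, PRep2 g nd43 := mul_sound sd34 sd42 ck43
theorem sd44 : ∃ g ∈ K2, PRep2 g nd44 := mul_sound sd0 sd3 ck44
theorem sd45 : ∃ g ∈ K2, PRep2 g nd45 := mul_sound sd2 sd44 ck45
theorem sd46 : ∃ g ∈ K2, PRep2 g nd46 := mul_sound sd0 sd45 ck46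
theorem sd47 : ∃ g ∈ K2, PRep2 g nd47 := mul_sound sd0 sd46 ck47
theorem sd48 : ∃ g ∈ K2, PRep2 g nd48 := mul_sound sd2 sd47 ck48
theorem sd49 : ∃ g ∈ K2, PRep2 g nd49 := mul_sound sd1 sd48 ck49
theorem sd50 : ∃ g ∈ K2, PRep2 g nd50 := mul_sound sd1 sd49 ck50
theorem sd51 : ∃ g ∈ K2, PRep2 g nd51 := mul_sound sd0 sd50 ck51
theorem sd52 : ∃ g ∈ K2, PRep2 g nd52 := mul_sound sd0 sd51 ck52
theorem sd53 : ∃ g ∈ K2, PRep2 g nd53 := mul_sound sd0 sd52 ck53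
theorem sd54 : ∃ g ∈ K2, PRep2 g nd54 := mul_sound sd28 sd53 ck54
theorem sd55 : ∃ g ∈ K2, PRep2 g nd55 := mul_sound sd26 sd43 ck55
theorem sd56 : ∃ g ∈ K2, PRep2 g nd56 := mul_sound sd55 sd54 ck56
theorem sd57 : ∃ g ∈ K2, PRep2 g nd57 := mul_sound sd56 sd26 ck57
theorem sd58 : ∃ g ∈ K2, PRep2 g nd58 := mul_sound sd57 sd26 ck58
theorem sd59 : ∃ g ∈ K2, PRep2 g nd59 := mul_sound sd58 sd43 ck59
theorem sd60 : ∃ g ∈ K2, PRep2 g nd60 := mul_sound sd59 sd26 ck60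
theorem sd61 : ∃ g ∈ K2, PRep2 g nd61 := mul_sound sd60 sd26 ck61
theorem sd62 : ∃ g ∈ K2, PRep2 g nd62 := mul_sound sd26 sd26 ck62
theorem sd63 : ∃ g ∈ K2, PRep2 g nd63 := mul_sound sd43 sd62 ck63
theorem sd64 : ∃ g ∈ K2, PRep2 g nd64 := mul_sound sd54 sd63 ck64
theorem sd65 : ∃ g ∈ K2, PRep2 g nd65 := mul_sound sd54 sd64 ck65
theorem sd66 : ∃ g ∈ K2, PRep2 g nd66 := mul_sound sd26 sd65 ck66
theorem sd67 : ∃ g ∈ K2, PRep2 g nd67 := mul_sound sd26 sd66 ck67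
theorem sd68 : ∃ g ∈ K2, PRep2 g nd68 := mul_sound sd26 sd67 ck68
theorem sd69 : ∃ g ∈ K2, PRep2 g nd69 := mul_sound sd61 sd68 ck69
theorem sd70 : ∃ g ∈ K2, PRep2 g nd70 := mul_sound sd62 sd54 ck70
theorem sd71 : ∃ g ∈ K2, PRep2 g nd71 := mul_sound sd70 sd43 ck71
theorem sd72 : ∃ g ∈ K2, PRep2 g nd72 := mul_sound sd71 sd54 ck72
theorem sd73 : ∃ g ∈ K2, PRep2 g nd73 := mul_sound sd72 sd43 ck73
theorem sd74 : ∃ g ∈ K2, PRep2 g nd74 := mul_sound sd73 sd54 ck74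
theorem sd75 : ∃ g ∈ K2, PRep2 g nd75 := mul_sound sd74 sd26 ck75
theorem sd76 : ∃ g ∈ K2, PRep2 g nd76 := mul_sound sd26 sd62 ck76
theorem sd77 : ∃ g ∈ K2, PRep2 g nd77 := mul_sound sd26 sd76 ck77
theorem sd78 : ∃ g ∈ K2, PRep2 g nd78 := mul_sound sd43 sd77 ck78
theorem sd79 : ∃ g ∈ K2, PRep2 g nd79 := mul_sound sd26 sd78 ck79
theorem sd80 : ∃ g ∈ K2, PRep2 g nd80 := mul_sound sd54 sd79 ck80
theorem sd81 : ∃ g ∈ K2, PRep2 g nd81 := mul_sound sd43 sd80 ck81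
theorem sd82 : ∃ g ∈ K2, PRep2 g nd82 := mul_sound sd43 sd81 ck82
theorem sd83 : ∃ g ∈ K2, PRep2 g nd83 := mul_sound sd75 sd82 ck83
theorem sd84 : ∃ g ∈ K2, PRep2 g nd84 := mul_sound sd26 sd54 ck84
theorem sd85 : ∃ g ∈ K2, PRep2 g nd85 := mul_sound sd84 sd26 ck85
theorem sd86 : ∃ g ∈ K2, PRep2 g nd86 := mul_sound sd85 sd43 ck86
theorem sd87 : ∃ g ∈ K2, PRep2 g nd87 := mul_sound sd86 sd26 ck87
theorem sd88 : ∃ g ∈ K2, PRep2 g nd88 := mul_sound sd87 sd26 ck88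
theorem sd89 : ∃ g ∈ K2, PRep2 g nd89 := mul_sound sd43 sd55 ck89
theorem sd90 : ∃ g ∈ K2, PRep2 g nd90 := mul_sound sd26 sd89 ck90
theorem sd91 : ∃ g ∈ K2, PRep2 g nd91 := mul_sound sd26 sd90 ck91
theorem sd92 : ∃ g ∈ K2, PRep2 g nd92 := mul_sound sd26 sd91 ck92
theorem sd93 : ∃ g ∈ K2, PRep2 g nd93 := mul_sound sd26 sd92 ck93
theorem sd94 : ∃ g ∈ K2, PRep2 g nd94 := mul_sound sd88 sd93 ck94
theorem sd95 : ∃ g ∈ K2, PRep2 g nd95 := mul_sound sd69 sd83 ck95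
theorem sd96 : ∃ g ∈ K2, PRep2 g nd96 := mul_sound sd95 sd69 ck96
theorem sd97 : ∃ g ∈ K2, PRep2 g nd97 := mul_sound sd96 sd83 ck97
theorem sd98 : ∃ g ∈ K2, PRep2 g nd98 := mul_sound sd97 sd69 ck98
theorem sd99 : ∃ g ∈ K2, PRep2 g nd99 := mul_sound sd98 sd83 ck99
theorem sd100 : ∃ g ∈ K2, PRep2 g nd100 := mul_sound sd99 sd69 ck100
theorem sd101 : ∃ g ∈ K2, PRep2 g nd101 := mul_sound sd69 sd97 ck101
theorem sd102 : ∃ g ∈ K2, PRep2 g nd102 := mul_sound sd83 sd101 ck102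
theorem sd103 : ∃ g ∈ K2, PRep2 g nd103 := mul_sound sd94 sd102 ck103
theorem sd104 : ∃ g ∈ K2, PRep2 g nd104 := mul_sound sd83 sd103 ck104
theorem sd105 : ∃ g ∈ K2, PRep2 g nd105 := mul_sound sd100 sd104 ck105
theorem sd106 : ∃ g ∈ K2, PRep2 g nd106 := mul_sound sd69 sd69 ck106
theorem sd107 : ∃ g ∈ K2, PRep2 g nd107 := mul_sound sd106 sd94 ck107
theorem sd108 : ∃ g ∈ K2, PRep2 g nd108 := mul_sound sd107 sd69 ck108
theorem sd109 : ∃ g ∈ K2, PRep2 g nd109 := mul_sound sd108 sd69 ck109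
theorem sd110 : ∃ g ∈ K2, PRep2 g nd110 := mul_sound sd109 sd69 ck110
theorem sd111 : ∃ g ∈ K2, PRep2 g nd111 := mul_sound sd83 sd69 ck111
theorem sd112 : ∃ g ∈ K2, PRep2 g nd112 := mul_sound sd83 sd111 ck112
theorem sd113 : ∃ g ∈ K2, PRep2 g nd113 := mul_sound sd83 sd112 ck113
theorem sd114 : ∃ g ∈ K2, PRep2 g nd114 := mul_sound sd69 sd113 ck114
theorem sd115 : ∃ g ∈ K2, PRep2 g nd115 := mul_sound sd94 sd114 ck115
theorem sd116 : ∃ g ∈ K2, PRep2 g nd116 := mul_sound sd83 sd115 ck116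
theorem sd117 : ∃ g ∈ K2, PRep2 g nd117 := mul_sound sd69 sd116 ck117
theorem sd118 : ∃ g ∈ K2, PRep2 g nd118 := mul_sound sd110 sd117 ck118
theorem sd119 : ∃ g ∈ K2, PRep2 g nd119 := mul_sound sd118 sd105 ck119
theorem sd120 : ∃ g ∈ K2, PRep2 g nd120 := mul_sound sd119 sd105 ck120
theorem sd121 : ∃ g ∈ K2, PRep2 g nd121 := mul_sound sd120 sd118 ck121
theorem sd122 : ∃ g ∈ K2, PRep2 g nd122 := mul_sound sd121 sd118 ck122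
theorem sd123 : ∃ g ∈ K2, PRep2 g nd123 := mul_sound sd122 sd118 ck123
theorem sd124 : ∃ g ∈ K2, PRep2 g nd124 := mul_sound sd118 sd123 ck124
theorem sd125 : ∃ g ∈ K2, PRep2 g nd125 := mul_sound sd118 sd124 ck125
theorem sd126 : ∃ g ∈ K2, PRep2 g nd126 := mul_sound sd120 sd105 ck126
theorem sd127 : ∃ g ∈ K2, PRep2 g nd127 := mul_sound sd125 sd118 ck127
theorem sd128 : ∃ g ∈ K2, PRep2 g nd128 := mul_sound sd127 sd118 ck128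
theorem sd129 : ∃ g ∈ K2, PRep2 g nd129 := mul_sound sd128 sd105 ck129
theorem sd130 : ∃ g ∈ K2, PRep2 g nd130 := mul_sound sd129 sd105 ck130
theorem sd131 : ∃ g ∈ K2, PRep2 g nd131 := mul_sound sd105 sd126 ck131
theorem sd132 : ∃ g ∈ K2, PRep2 g nd132 := mul_sound sd105 sd131 ck132
theorem sd133 : ∃ g ∈ K2, PRep2 g nd133 := mul_sound sd105 sd132 ck133
theorem sd134 : ∃ g ∈ K2, PRep2 g nd134 := mul_sound sd118 sd133 ck134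
theorem sd135 : ∃ g ∈ K2, PRep2 g nd135 := mul_sound sd105 sd134 ck135
theorem sd136 : ∃ g ∈ K2, PRep2 g nd136 := mul_sound sd105 sd135 ck136
theorem sd137 : ∃ g ∈ K2, PRep2 g nd137 := mul_sound sd118 sd136 ck137
theorem sd138 : ∃ g ∈ K2, PRep2 g nd138 := mul_sound sd118 sd137 ck138
theorem sd139 : ∃ g ∈ K2, PRep2 g nd139 := mul_sound sd130 sd138 ck139

theorem gsd0 : ∀ c ∈ gl0, ∃ g ∈ K2, PRep2 g c :=
  List.forall_mem_cons.mpr ⟨sd0, List.forall_mem_cons.mpr ⟨sd1, List.forall_mem_cons.mpr ⟨sd2, fun _ h => absurd h List.not_mem_nil⟩⟩⟩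
theorem lv0 (hL : StLevel) :
    4600 * Nat.card ↥(StabL [0]) ≤ Nat.card ↥(StabL ([] : List ℕ)) :=
  hL [] gl0 tr0 4600 0 (by norm_num) gsd0 gf0 (by decide) ct0
theorem gsd1 : ∀ c ∈ gl1, ∃ g ∈ K2, PRep2 g c :=
  List.forall_mem_cons.mpr ⟨sd26, List.forall_mem_cons.mpr ⟨sd43, List.forall_mem_cons.mpr ⟨sd54, fun _ h => absurd h List.not_mem_nil⟩⟩⟩
theorem lv1 (hL : StLevel) :
    2816 * Nat.card ↥(StabL [78, 0]) ≤ Nat.card ↥(StabL [0]) :=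
  hL [0] gl1 tr1 2816 78 (by norm_num) gsd1 gf1 (by decide) ct1
theorem gsd2 : ∀ c ∈ gl2, ∃ g ∈ K2, PRep2 g c :=
  List.forall_mem_cons.mpr ⟨sd69, List.forall_mem_cons.mpr ⟨sd83, List.forall_mem_cons.mpr ⟨sd94, fun _ h => absurd h List.not_mem_nil⟩⟩⟩
theorem lv2 (hL : StLevel) :
    1680 * Nat.card ↥(StabL [165, 78, 0]) ≤ Nat.card ↥(StabL [78, 0]) :=
  hL [78, 0] gl2 tr2 1680 165 (by norm_num) gsd2 gf2 (by decide) ct2
theorem gsd3 : ∀ c ∈ gl3, ∃ g ∈ K2, PRep2 g c :=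
  List.forall_mem_cons.mpr ⟨sd105, List.forall_mem_cons.mpr ⟨sd118, fun _ h => absurd h List.not_mem_nil⟩⟩
theorem lv3 (hL : StLevel) :
    972 * Nat.card ↥(StabL [294, 165, 78, 0]) ≤ Nat.card ↥(StabL [165, 78, 0]) :=
  hL [165, 78, 0] gl3 tr3 972 294 (by norm_num) gsd3 gf3 (by decide) ct3
theorem gsd4 : ∀ c ∈ gl4, ∃ g ∈ K2, PRep2 g c :=
  List.forall_mem_cons.mpr ⟨sd139, fun _ h => absurd h List.not_mem_nil⟩
theorem lv4 (hL : StLevel) :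
    2 * Nat.card ↥(StabL [1, 294, 165, 78, 0]) ≤ Nat.card ↥(StabL [294, 165, 78, 0]) :=
  hL [294, 165, 78, 0] gl4 tr4 2 1 (by norm_num) gsd4 gf4 (by decide) ct4

/-- piece C2-CHAIN (modulo the abstract soundness statements) -/
theorem chain2 (hL : StLevel) (hN : StStabNil) : StChain2 := by
  have h0 := lv0 hL
  have h1 := lv1 hL
  have h2 := lv2 hL
  have h3 := lv3 hL
  have h4 := lv4 hL
  have hpos : 0 < Nat.card ↥(StabL [1, 294, 165, 78, 0]) := Nat.card_pos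
  have e : Nat.card ↥(StabL ([] : List ℕ)) = Nat.card ↥K2 := by rw [hN]
  show 42305421312000 ≤ Nat.card ↥K2
  omega

end Cfsg.Agent.H33.C2
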