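import Mathlib
import Cfsg.Agent.H33.C2.ChDefs
import Cfsg.Agent.H69.MclOrbStab

/-!
# Soundness of the Schreier-tree certificate (piece C2-TREE of S2070, helper33)
-/

set_option autoImplicit false

namespace Cfsg.Agent.H33.C2

open Cfsg Cfsg.Agent.H9 Cfsg.Agent.H33 Cfsg.Agent.H33.C3

theorem mem_StabL (bs : List ℕ) (g : Equiv.Perm (Fin 4600)) :
    g ∈ StabL bs ↔ g ∈ K2 ∧ ∀ b ∈ bs, g (pt b) = pt b := by
  unfold StabL
  simp only [Subgroup.mem_inf, Subgroup.mem_iInf, MulAction.mem_stabilizer_iff,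
    Equiv.Perm.smul_def]

/-- piece C2-TREE, part STABNIL -/
theorem stabNil : StStabNil := by
  show StabL [] = K2
  ext g
  rw [mem_StabL]
  simp

theorem StabL_cons (r : ℕ) (bs : List ℕ) :
    StabL (r :: bs) = StabL bs ⊓ MulAction.stabilizer (Equiv.Perm (Fin 4600)) (pt r) := by
  ext g
  rw [Subgroup.mem_inf, mem_StabL, mem_StabL, MulAction.mem_stabilizer_iff, Equiv.Perm.smul_def]
  simp only [List.mem_cons, forall_eq_or_imp]
  tauto

theorem lt_of_succ_lt2 (f : ℕ → ℕ) (n : ℕ) (hs : ∀ e, e + 1 < n → f e < f (e + 1)) :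
    ∀ i j, i < j → j < n → f i < f j := by
  intro i j hij
  induction j with
  | zero => omega
  | succ j ih =>
    intro hj
    rcases Nat.lt_succ_iff_lt_or_eq.mp hij with h1 | h1
    · exact (ih h1 (by omega)).trans (hs j hj)
    · subst h1; exact hs i hj

theorem inj_succ2 (f : ℕ → ℕ) (n : ℕ) (hs : ∀ e, e + 1 < n → f e < f (e + 1)) :
    ∀ i j, i < n → j < n → f i = f j → i = j := by
  intro i j hi hj e
  rcases Nat.lt_trichotomy i j with h | h | h
  · exact absurd e (lt_of_succ_lt2 f n hs i j h hj).ne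
  · exact h
  · exact absurd e.symm (lt_of_succ_lt2 f n hs j i h hi).ne

/-- piece C2-TREE, part LEVEL -/
theorem level : StLevel := by
  intro bs gl T n r hr hgl hfix hbs h
  classical
  have hc : ∀ t < n, tQ (fldW 64 T t) < 4600 ∧
      (t + 1 < n → tQ (fldW 64 T t) < tQ (fldW 64 T (t + 1))) ∧
      ((tD (fldW 64 T t) = 0 ∧ tQ (fldW 64 T t) = r) ∨
       (tU (fldW 64 T t) < n ∧ tD (fldW 64 T (tU (fldW 64 T t))) < tD (fldW 64 T t) ∧
        tG (fldW 64 T t) < gl.length ∧
        g16 (gl.getD (tG (fldW 64 T t)) 0) (tQ (fldW 64 T (tU (fldW 64 T t)))) =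
          tQ (fldW 64 T t))) := by
    intro t ht
    have h0 := (allB_iff _ _).mp h t ht
    simp only [chkTr, Bool.and_eq_true, Bool.or_eq_true, Nat.blt_eq, Nat.beq_eq] at h0
    obtain ⟨h1, h2, h3⟩ := h0
    refine ⟨h1, fun hlt => ?_, ?_⟩
    · rcases h2 with h2 | h2
      · omega
      · exact h2
    · rcases h3 with ⟨h3, h4⟩ | ⟨h3, h4, h5, h6⟩
      · exact Or.inl ⟨h3, h4⟩
      · exact Or.inr ⟨h3, h4, h5, h6⟩
  have hgen : ∀ i < gl.length, ∃ s ∈ StabL bs, PRep2 s (gl.getD i 0) := by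
    intro i hi
    have hmem : gl.getD i 0 ∈ gl := by
      rw [List.getD_eq_getElem _ _ hi]
      exact List.getElem_mem hi
    obtain ⟨s, hs, rs⟩ := hgl _ hmem
    refine ⟨s, (mem_StabL bs s).mpr ⟨hs, fun b hb => ?_⟩, rs⟩
    have hf := List.all_eq_true.mp hfix _ hmem
    have hf2 := List.all_eq_true.mp hf b hb
    have hb4600 : b < 4600 := by
      have := List.all_eq_true.mp hbs b hb
      simpa using this
    have hpt : (pt b).val = b := Nat.mod_eq_of_lt hb4600
    apply Fin.ext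
    rw [rs, hpt]
    exact Nat.eq_of_beq_eq_true hf2
  have key : ∀ d, ∀ t < n, tD (fldW 64 T t) = d →
      ∃ g ∈ StabL bs, (g (pt r)).val = tQ (fldW 64 T t) := by
    intro d
    induction d using Nat.strong_induction_on with
    | _ d ih =>
      intro t ht hd
      rcases (hc t ht).2.2 with ⟨-, hq⟩ | ⟨hu, hdu, hg, himg⟩
      · refine ⟨1, (StabL bs).one_mem, ?_⟩
        rw [Equiv.Perm.one_apply, hq]
        exact Nat.mod_eq_of_lt hr
      · obtain ⟨g, hgS, hgv⟩ := ih _ (by rw [← hd]; exact hdu) _ hu rfl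
        obtain ⟨s, hsS, rs⟩ := hgen _ hg
        refine ⟨s * g, (StabL bs).mul_mem hsS hgS, ?_⟩
        rw [Equiv.Perm.mul_apply, rs, hgv]
        exact himg
  let f : Fin n → Fin 4600 := fun t => ⟨tQ (fldW 64 T t) % 4600, Nat.mod_lt _ (by norm_num)⟩
  have hf : Function.Injective f := by
    intro t t' e
    have e1 : tQ (fldW 64 T t) % 4600 = tQ (fldW 64 T t') % 4600 := congrArg Fin.val e
    rw [Nat.mod_eq_of_lt (hc t t.2).1, Nat.mod_eq_of_lt (hc t' t'.2).1] at e1
    exact Fin.ext (inj_succ2 (fun t => tQ (fldW 64 T t)) n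
      (fun e he => (hc e (by omega)).2.1 he) t t' t.2 t'.2 e1)
  have hO : ∀ q ∈ Finset.univ.image f, ∃ g ∈ StabL bs, g (pt r) = q := by
    intro q hq
    rw [Finset.mem_image] at hq
    obtain ⟨t, -, rfl⟩ := hq
    obtain ⟨g, hg, hv⟩ := key _ t t.2 rfl
    refine ⟨g, hg, Fin.ext ?_⟩
    show (g (pt r)).val = tQ (fldW 64 T t) % 4600
    rw [Nat.mod_eq_of_lt (hc t t.2).1]
    exact hv
  have := Cfsg.Agent.H69.Mcl.orbit_stab_le (StabL bs) (pt r) (Finset.univ.image f) hO
  rw [Finset.card_image_of_injective _ hf, Finset.card_univ, Fintype.card_fin,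
    ← StabL_cons] at this
  exact this

example : Cfsg.Agent.H33.C2.StLevel := level
example : Cfsg.Agent.H33.C2.StStabNil := stabNil

end Cfsg.Agent.H33.C2
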