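import Cfsg.Agent.H33.C2.Main
import Cfsg.Agent.H33.C2.Iso
import Cfsg.Agent.H33.C2.U0
import Cfsg.Agent.H33.C2.M24Inv
import Cfsg.Agent.H33.C2.Chain
import Cfsg.Agent.H33.C2.Tree
import Cfsg.Agent.H33.C3.M24Cent
import Cfsg.Agent.H84.C2Rigid
import Cfsg.Agent.H82.C2Rho
import Cfsg.Agent.H82.C2WT
import Cfsg.Agent.H89.C2WX
import Cfsg.Agent.H11.C2CentX
import Cfsg.Agent.H13.C2Fix
import Cfsg.Agent.H72.C2PermRel
import Cfsg.Agent.H72.C2NoInv

/-!
# Out(Co2) = 1 — assembly of the C2 route (team project S2070, helper33; design with helper93)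

All inputs of `Cfsg.Agent.H33.C2.out_co2` are discharged here: rigidity (helper84), the
centraliser of the element of order 23 (helper11), the two statements on the stabiliser of
`leechU'` (helper13), the lattice words (helper89: `x`, `z`; helper82: `t`), the action on the
4600 table vectors (helper82), the permutation relations and the refutation words (helper72),
and helper33's pieces (isomorphism, table vector 0, the Mathieu group statements, the chain
certificate with its Schreier-tree soundness).
-/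

set_option autoImplicit false

namespace Cfsg.Agent.H33.C2

/-- The outer automorphism group of Co₂ is trivial (hypothesis-free). -/
theorem out_co2_final : Nat.card (Cfsg.Out ↥Cfsg.Spor.Co2) = 1 :=
  out_co2 Cfsg.Agent.H84.C2.rigid2 Cfsg.Agent.H11.C2.centX2
    (Cfsg.Agent.H13.C2.fixA Cfsg.Agent.H33.C3.m24Cent) (Cfsg.Agent.H13.C2.fixB m24Inv)
    Cfsg.Agent.H89.C2.wX2_ok Cfsg.Agent.H89.C2.wZ2_ok Cfsg.Agent.H82.C2.wT2_ok
    Cfsg.Agent.H82.C2.rho2 u0 iso2 Cfsg.Agent.H72.C2.permRel2 Cfsg.Agent.H72.C2.noInv2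
    (chain2 level stabNil)

end Cfsg.Agent.H33.C2
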