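import Mathlib
import Cfsg.Agent.H33.C2.Defs
import Cfsg.Agent.H69.MclOutCong

/-!
# The outer automorphism group of the second Conway group is trivial: assembly of the pieces
(team project S2070, helper33)
-/

set_option autoImplicit false

namespace Cfsg.Agent.H33.C2

open Cfsg Cfsg.Agent.H9 Cfsg.Agent.H33 Cfsg.Agent.H33.C3

theorem mem_zpowers_sub2 {G : Type*} [Group G] (H : Subgroup G) (x s : ↥H)
    (h : (s : G) ∈ Subgroup.zpowers (x : G)) : s ∈ Subgroup.zpowers x := by
  obtain ⟨n, hn⟩ := Subgroup.mem_zpowers_iff.mp h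
  refine Subgroup.mem_zpowers_iff.mpr ⟨n, Subtype.ext ?_⟩
  rw [← hn]
  simp

theorem pZ2_zero : (pZ2 ⟨0, by norm_num⟩).val = 0 := by
  show g16 cZ2 0 = 0
  decide +kernel

/-- The assembly: the outer automorphism group of the second Conway group is trivial. -/
theorem out_co2 (hRigid : StRigid2) (hCX : StCentX2) (hFA : StFixA) (hFB : StFixB)
    (hWX : StWX2) (hWZ : StWZ2) (hWT : StWT2) (hRho : StRho2) (hU : StU0) (hIso : StIso2)
    (hRel : StPermRel2) (hNo : StNoInv2) (hChain : StChain2) :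
    Nat.card (Cfsg.Out ↥Cfsg.Spor.Co2) = 1 := by
  obtain ⟨ρ, hρ, huniq⟩ := hRho
  obtain ⟨x0, hx0G, hx0A, hx0P⟩ := hWX
  obtain ⟨z0, hz0G, hz0A, hz0P⟩ := hWZ
  obtain ⟨t0, ht0G, ht0P⟩ := hWT
  obtain ⟨r1, r2, r3, r3', r4, r5, r6, r7, r8, r9⟩ := hRel
  obtain ⟨n1, n2, n3, n4⟩ := hNo
  obtain ⟨x, hxdef⟩ : ∃ x : ↥G2, x = ⟨x0, hx0G⟩ := ⟨_, rfl⟩
  obtain ⟨z, hzdef⟩ : ∃ z : ↥G2, z = ⟨z0, hz0G⟩ := ⟨_, rfl⟩
  obtain ⟨t, htdef⟩ : ∃ t : ↥G2, t = ⟨t0, ht0G⟩ := ⟨_, rfl⟩
  have hxv : (x : ↥Co0) = x0 := by rw [hxdef]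
  have hzv : (z : ↥Co0) = z0 := by rw [hzdef]
  have ex : ρ x = pX2 := huniq x pX2 (by rw [hxv]; exact hx0P)
  have ez : ρ z = pZ2 := huniq z pZ2 (by rw [hzv]; exact hz0P)
  have et : ρ t = pT2 := huniq t pT2 (by rw [htdef]; exact ht0P)
  have hsimp : IsSimpleGroup ↥G2 := (co2_isCo2 b32 b32_sq).1
  have hcard : Nat.card ↥G2 = 42305421312000 := (co2_isCo2 b32 b32_sq).2
  have hker : ρ.ker = ⊥ := by
    rcases hsimp.eq_bot_or_eq_top_of_normal ρ.ker (MonoidHom.normal_ker ρ) with h | h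
    · exact h
    · exfalso
      have hm : x ∈ ρ.ker := by rw [h]; trivial
      rw [MonoidHom.mem_ker, ex] at hm
      exact r2 hm
  have hinj : Function.Injective ρ := (MonoidHom.ker_eq_bot_iff ρ).mp hker
  -- relations
  have hx23 : x ^ 23 = 1 := hinj (by rw [map_pow, ex, r1, map_one])
  have hx1 : x ≠ 1 := fun h => r2 (by rw [← ex, h, map_one])
  have hxo : orderOf x = 23 := by
    have : Fact (Nat.Prime 23) := ⟨by norm_num⟩
    exact orderOf_eq_prime hx23 hx1
  have hzx : z * x * z⁻¹ = x ^ 12 :=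
    hinj (by rw [map_mul, map_mul, map_inv, map_pow, ex, ez, r4])
  have ht2 : t ^ 2 = 1 := hinj (by rw [map_pow, et, r5, map_one])
  have htz : t * z * t⁻¹ = z⁻¹ :=
    hinj (by rw [map_mul, map_mul, map_inv, map_inv, et, ez, r6])
  have hz11 : z ^ 11 = 1 := hinj (by rw [map_pow, ez, r3, map_one])
  have hz1 : z ≠ 1 := fun h => r3' (by rw [← ez, h, map_one])
  have hzo : orderOf z = 11 := by
    have : Fact (Nat.Prime 11) := ⟨by norm_num⟩
    exact orderOf_eq_prime hz11 hz1
  have hzodd : Odd (orderOf z) := by rw [hzo]; exact ⟨5, rfl⟩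
  -- the centraliser of x
  have hcx : ∀ s : ↥G2, s * x = x * s → s ∈ Subgroup.zpowers x := by
    intro s hs
    apply mem_zpowers_sub2
    rw [hxv]
    refine hCX x0 hx0A s.1 s.2 ?_
    have h1 := congrArg Subtype.val hs
    rw [Subgroup.coe_mul, Subgroup.coe_mul, hxv] at h1
    exact h1
  -- elements mapping the table vector 0 to itself fix leechU'
  have fixU : ∀ s : ↥G2, (ρ s ⟨0, by norm_num⟩).val = 0 →
      (s : ↥Co0) • Cfsg.Spor.leechU' = Cfsg.Spor.leechU' := by
    intro s h0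
    have hneg : (s : ↥Co0) • (-Cfsg.Spor.leechU') = -Cfsg.Spor.leechU' := by
      apply Subtype.ext
      have h1 := hρ s ⟨0, by norm_num⟩ (-Cfsg.Spor.leechU') hU.symm
      rw [h1, h0]
      exact hU
    have h2 : (s : ↥Co0) • (-Cfsg.Spor.leechU') = -((s : ↥Co0) • Cfsg.Spor.leechU') :=
      Cfsg.Agent.H93.co0_map_neg (s : ↥Co0).2 Cfsg.Spor.leechU'
    rw [h2] at hneg
    exact neg_injective hneg
  have hZ0 : pZ2 ⟨0, by norm_num⟩ = ⟨0, by norm_num⟩ := Fin.ext pZ2_zero
  -- the centraliser of z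
  have hcz : ∀ s : ↥G2, s * z = z * s → s ∈ Subgroup.zpowers z := by
    intro s hs
    have hc : ρ s * pZ2 = pZ2 * ρ s := by rw [← ez, ← map_mul, ← map_mul, hs]
    have hfix : pZ2 (ρ s ⟨0, by norm_num⟩) = ρ s ⟨0, by norm_num⟩ := by
      have h1 := congrArg (fun f : Equiv.Perm (Fin 4600) => f ⟨0, by norm_num⟩) hc
      simp only [Equiv.Perm.mul_apply] at h1
      rw [hZ0] at h1
      exact h1.symm
    rcases r7 _ hfix with h0 | h4599
    · apply mem_zpowers_sub2
      rw [hzv]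
      refine hFA z0 hz0A s.1 s.2 (fixU s h0) ?_
      have h1 := congrArg Subtype.val hs
      rw [Subgroup.coe_mul, Subgroup.coe_mul, hzv] at h1
      exact h1
    · exfalso
      have hts0 : (ρ (t * s) ⟨0, by norm_num⟩).val = 0 := by
        rw [map_mul, et, Equiv.Perm.mul_apply]
        have e0 : ρ s ⟨0, by norm_num⟩ = ⟨4599, by norm_num⟩ := Fin.ext h4599
        rw [e0]
        exact r9
      have hszs : s * z * s⁻¹ = z := by rw [hs, mul_inv_cancel_right]
      have hinvz : (t * s) * z * (t * s)⁻¹ = z⁻¹ := by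
        calc (t * s) * z * (t * s)⁻¹ = t * (s * z * s⁻¹) * t⁻¹ := by group
          _ = t * z * t⁻¹ := by rw [hszs]
          _ = z⁻¹ := htz
      refine hFB z0 hz0A (t * s).1 (t * s).2 (fixU (t * s) hts0) ?_
      have h1 := congrArg Subtype.val hinvz
      rw [Subgroup.coe_mul, Subgroup.coe_mul, Subgroup.coe_inv, Subgroup.coe_inv, hzv] at h1
      exact h1
  -- generation
  have hgen : Subgroup.closure ({x, z, t} : Set ↥G2) = ⊤ := by
    have himg : (ρ : ↥G2 → Equiv.Perm (Fin 4600)) '' ({x, z, t} : Set ↥G2) = {pX2, pZ2, pT2} := by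
      rw [Set.image_insert_eq, Set.image_insert_eq, Set.image_singleton, ex, ez, et]
    have hmap : (Subgroup.closure ({x, z, t} : Set ↥G2)).map ρ = K2 := by
      rw [MonoidHom.map_closure, himg]
      rfl
    have hKle : K2 ≤ ρ.range := by
      rw [← hmap, MonoidHom.range_eq_map]
      exact Subgroup.map_mono le_top
    have hrange : Nat.card ↥ρ.range = 42305421312000 := by
      rw [← hcard]
      exact (Nat.card_congr (MonoidHom.ofInjective hinj).toEquiv).symm
    have hKeq : K2 = ρ.range := by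
      apply Subgroup.eq_of_le_of_card_ge hKle
      rw [hrange]
      exact hChain
    have h2 : (Subgroup.closure ({x, z, t} : Set ↥G2)).map ρ = (⊤ : Subgroup ↥G2).map ρ := by
      rw [hmap, hKeq, MonoidHom.range_eq_map]
    exact Subgroup.map_injective hinj h2
  -- no automorphism maps x to a proper power and fixes z and t
  have h11 : (x * z ^ 3 * t) ^ 11 = 1 :=
    hinj (by rw [map_pow, map_mul, map_mul, map_pow, ex, ez, et, n1, map_one])
  have h9 : (x * t * x * t * x * z ^ 2) ^ 9 = 1 :=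
    hinj (by
      rw [map_pow, map_mul, map_mul, map_mul, map_mul, map_mul, map_pow, ex, ez, et, n3, map_one])
  have hx22 : x ^ 22 = x⁻¹ := by
    have h : x ^ 22 * x = 1 := by rw [← pow_succ]; exact hx23
    exact eq_inv_of_mul_eq_one_left h
  have hno : ∀ m : ℕ, 1 < m → m < 23 →
      ¬ ∃ β : ↥G2 ≃* ↥G2, β x = x ^ m ∧ β z = z ∧ β t = t := by
    intro m hm1 hm23
    rintro ⟨β, b1, b2, b3⟩
    rcases Nat.lt_or_ge m 22 with hm | hm
    · have h1 := congrArg β h11
      rw [map_pow, map_mul, map_mul, map_pow, b1, b2, b3, map_one] at h1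
      apply n2 m hm1 hm
      have h2 := congrArg ρ h1
      rw [map_pow, map_mul, map_mul, map_pow, map_pow, ex, ez, et, map_one] at h2
      exact h2
    · have hm22 : m = 22 := by omega
      subst hm22
      rw [hx22] at b1
      have h1 := congrArg β h9
      rw [map_pow, map_mul, map_mul, map_mul, map_mul, map_mul, map_pow, b1, b2, b3, map_one] at h1
      apply n4
      have h2 := congrArg ρ h1
      rw [map_pow, map_mul, map_mul, map_mul, map_mul, map_mul, map_pow, map_inv, ex, ez, et,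
        map_one] at h2
      exact h2
  have hout : Nat.card (Cfsg.Out ↥G2) = 1 := by
    haveI : Finite ↥G2 := Nat.finite_of_card_ne_zero (by rw [hcard]; norm_num)
    exact hRigid x z t 23 12 (by norm_num) hxo (by rw [hcard]; norm_num) hcx hzx (by norm_num)
      hzodd hcz ht2 htz hgen hno
  obtain ⟨e⟩ := hIso
  rw [← hout]
  exact Cfsg.Agent.H69.Mcl.card_out_congr e

end Cfsg.Agent.H33.C2
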